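import Groth.Agent.LocAcycLib.StrictBC
import Mathlib.AlgebraicGeometry.Morphisms.Integral

/-!
# Strict localizations of a base change, as integral base changes
-/

set_option autoImplicit false
set_option linter.unusedSectionVars false
set_option linter.style.haveILetI false
set_option backward.isDefEq.respectTransparency false
set_option backward.isDefEq.respectTransparency.types false

universe u

open CategoryTheory CategoryTheory.Limits AlgebraicGeometry IsLocalRing TensorProduct

noncomputable section

namespace Groth.Agent.LocAcycLib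

/-- Strict localisations of a base change along a quasi-finite or integral affine morphism. -/
theorem exists_strict_of_charts {X S S' : Scheme.{u}} (f : X ⟶ S) (g : S' ⟶ S)
    {A B C : Type u} [CommRing A] [CommRing B] [CommRing C] [Algebra A B] [Algebra A C]
    (hB : ∀ s : Finset B, ∃ B₀ : Subalgebra A B, (↑s : Set B) ⊆ ↑B₀ ∧
      Algebra.FiniteType A ↥B₀ ∧ Algebra.QuasiFinite A ↥B₀)
    (kA : Spec (CommRingCat.of A) ⟶ S) [IsOpenImmersion kA]
    (kB : Spec (CommRingCat.of B) ⟶ S') [IsOpenImmersion kB]
    (kC : Spec (CommRingCat.of C) ⟶ X) [IsOpenImmersion kC]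
    (kD : Spec (CommRingCat.of (B ⊗[A] C)) ⟶ pullback f g) [IsOpenImmersion kD]
    (wB : kB ≫ g = Spec.map (CommRingCat.ofHom (algebraMap A B)) ≫ kA)
    (wC : kC ≫ f = Spec.map (CommRingCat.ofHom (algebraMap A C)) ≫ kA)
    (wDB : kD ≫ pullback.snd f g = Spec.map (CommRingCat.ofHom (algebraMap B (B ⊗[A] C))) ≫ kB)
    (wDC : kD ≫ pullback.fst f g =
      Spec.map (CommRingCat.ofHom (Algebra.TensorProduct.includeRight : C →ₐ[A] B ⊗[A] C).toRingHom) ≫ kC)
    (P : Spec (CommRingCat.of (B ⊗[A] C)))
    (RS' RX' : Type u) [CommRing RS'] [CommRing RX'] [IsLocalRing RS'] [IsLocalRing RX']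
    [Algebra (S'.presheaf.stalk (pullback.snd f g (kD P))) RS']
    [IsLocalHom (algebraMap (S'.presheaf.stalk (pullback.snd f g (kD P))) RS')]
    [_root_.Hensel.IsStrictHenselization (S'.presheaf.stalk (pullback.snd f g (kD P))) RS']
    [Algebra ((pullback f g).presheaf.stalk (kD P)) RX'] [IsLocalHom (algebraMap ((pullback f g).presheaf.stalk (kD P)) RX')]
    [_root_.Hensel.IsStrictHenselization ((pullback f g).presheaf.stalk (kD P)) RX']
    [Algebra RS' RX'] [IsLocalHom (algebraMap RS' RX')]
    (hc : (algebraMap RS' RX').comp (algebraMap (S'.presheaf.stalk (pullback.snd f g (kD P))) RS') =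
      (algebraMap ((pullback f g).presheaf.stalk (kD P)) RX').comp ((pullback.snd f g).stalkMap (kD P)).hom) :
    ∃ (RS RX : Type u) (_ : CommRing RS) (_ : CommRing RX) (_ : IsLocalRing RS) (_ : IsLocalRing RX)
      (_ : Algebra (S.presheaf.stalk (f (pullback.fst f g (kD P)))) RS)
      (_ : IsLocalHom (algebraMap (S.presheaf.stalk (f (pullback.fst f g (kD P)))) RS))
      (_ : _root_.Hensel.IsStrictHenselization (S.presheaf.stalk (f (pullback.fst f g (kD P)))) RS)
      (_ : Algebra (X.presheaf.stalk (pullback.fst f g (kD P))) RX)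
      (_ : IsLocalHom (algebraMap (X.presheaf.stalk (pullback.fst f g (kD P))) RX))
      (_ : _root_.Hensel.IsStrictHenselization (X.presheaf.stalk (pullback.fst f g (kD P))) RX)
      (_ : Algebra RS RX) (_ : IsLocalHom (algebraMap RS RX)) (α : RS →+* RS'),
      (algebraMap RS RX).comp (algebraMap (S.presheaf.stalk (f (pullback.fst f g (kD P)))) RS) =
        (algebraMap (X.presheaf.stalk (pullback.fst f g (kD P))) RX).comp
          (f.stalkMap (pullback.fst f g (kD P))).hom ∧
      α.IsIntegral ∧ ∃ μ : RX →+* RX',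
        IsPullback (Spec.map (CommRingCat.ofHom (algebraMap RS' RX'))) (Spec.map (CommRingCat.ofHom μ))
          (Spec.map (CommRingCat.ofHom α)) (Spec.map (CommRingCat.ofHom (algebraMap RS RX))) := by
  let D := B ⊗[A] C
  let x' := kD P
  let pD := P.asIdeal
  let PB : Spec (CommRingCat.of B) := (Spec.map (CommRingCat.ofHom (algebraMap B D))) P
  let PC : Spec (CommRingCat.of C) :=
    (Spec.map (CommRingCat.ofHom (Algebra.TensorProduct.includeRight : C →ₐ[A] D).toRingHom)) P
  let PA : Spec (CommRingCat.of A) := (Spec.map (CommRingCat.ofHom (algebraMap A C))) PC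
  have eB : kB PB = pullback.snd f g x' := (pt_congr wDB P).symm
  have eC : kC PC = pullback.fst f g x' := (pt_congr wDC P).symm
  have eA : kA PA = f (pullback.fst f g x') := (pt_congr wC PC).symm.trans (congrArg f eC)
  have eg : f (pullback.fst f g x') = g (pullback.snd f g x') := pt_congr pullback.condition x'
  -- the stalk maps
  let OA := S.presheaf.stalk (f (pullback.fst f g x'))
  let OB := S'.presheaf.stalk (pullback.snd f g x')
  let OC := X.presheaf.stalk (pullback.fst f g x')
  let φf : OA →+* OC := (f.stalkMap (pullback.fst f g x')).hom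
  let φg : OA →+* OB :=
    ((S.presheaf.stalkCongr (.of_eq eg)).hom ≫ g.stalkMap (pullback.snd f g x')).hom
  let φ1 : OC →+* (pullback f g).presheaf.stalk x' := ((pullback.fst f g).stalkMap x').hom
  let φ2 : OB →+* (pullback f g).presheaf.stalk x' := ((pullback.snd f g).stalkMap x').hom
  have hsq : φ1.comp φf = φ2.comp φg := by
    have : f.stalkMap (pullback.fst f g x') ≫ (pullback.fst f g).stalkMap x' =
        ((S.presheaf.stalkCongr (.of_eq eg)).hom ≫ g.stalkMap (pullback.snd f g x')) ≫
          (pullback.snd f g).stalkMap x' := by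
      apply Spec.map_injective
      rw [← cancel_mono (S.fromSpecStalk _), TopCat.Presheaf.stalkCongr_hom]
      simp only [Spec.map_comp, Category.assoc, Scheme.SpecMap_stalkMap_fromSpecStalk,
        Scheme.SpecMap_stalkMap_fromSpecStalk_assoc, Scheme.SpecMap_stalkSpecializes_fromSpecStalk,
        pullback.condition]
    exact congrArg CommRingCat.Hom.hom this
  haveI : IsLocalHom φg := by
    dsimp only [φg]; rw [CommRingCat.hom_comp]; exact RingHom.isLocalHom_comp _ _
  obtain ⟨RS, _, _, _, _, hRS⟩ := BcQCalc.exists_strictHens OA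
  obtain ⟨RX, _, _, _, _, hRX⟩ := BcQCalc.exists_strictHens OC
  obtain ⟨α, hαl, hα⟩ := BcQCalc.exists_strictMap (R := RS) (R' := RS') φg
  obtain ⟨μ, hμl, hμ⟩ := BcQCalc.exists_strictMap (R := RX) (R' := RX') φ1
  haveI := hαl
  haveI := hμl
  haveI : HenselianLocalRing RX' :=
    _root_.Hensel.IsStrictHenselization.henselian (R := (pullback f g).presheaf.stalk x')
  haveI : IsLocalHom ((algebraMap RS' RX').comp α) := RingHom.isLocalHom_comp _ _
  obtain ⟨β, hβl, hβ, hμβ⟩ := exists_lift (O := OA) (R := RS) (O₁ := OC) (R₁ := RX) φf μ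
    ((algebraMap RS' RX').comp α) (by
      rw [RingHom.comp_assoc, hα, ← RingHom.comp_assoc, hc, RingHom.comp_assoc, ← hsq, ← RingHom.comp_assoc, hμ])
  letI : Algebra RS RX := β.toAlgebra
  haveI : IsLocalHom (algebraMap RS RX) := hβl
  refine ⟨RS, RX, inferInstance, inferInstance, inferInstance, inferInstance, inferInstance, inferInstance, hRS,
    inferInstance, inferInstance, hRX, β.toAlgebra, hβl, α, hβ, ?_⟩
  -- chart maps
  let cA : A →+* OA := (chartMap kA PA ≫ (S.presheaf.stalkCongr (.of_eq eA)).hom).hom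
  let cB : B →+* OB := (chartMap kB PB ≫ (S'.presheaf.stalkCongr (.of_eq eB)).hom).hom
  let cC : C →+* OC := (chartMap kC PC ≫ (X.presheaf.stalkCongr (.of_eq eC)).hom).hom
  let cD : D →+* (pullback f g).presheaf.stalk x' := (chartMap kD P).hom
  let lA : Localization.AtPrime PA.asIdeal ≃+* OA :=
    (chartIso kA PA ≪≫ S.presheaf.stalkCongr (.of_eq eA)).commRingCatIsoToRingEquiv
  let lB : Localization.AtPrime PB.asIdeal ≃+* OB :=
    (chartIso kB PB ≪≫ S'.presheaf.stalkCongr (.of_eq eB)).commRingCatIsoToRingEquiv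
  let lC : Localization.AtPrime PC.asIdeal ≃+* OC :=
    (chartIso kC PC ≪≫ X.presheaf.stalkCongr (.of_eq eC)).commRingCatIsoToRingEquiv
  let lD : Localization.AtPrime pD ≃+* (pullback f g).presheaf.stalk x' :=
    (chartIso kD P).commRingCatIsoToRingEquiv
  have cDB : φ2.comp cB = cD.comp (algebraMap B D) := by
    have := stalkMap_chartMap kD P (pullback.snd f g) kB _ wDB PB eB
    rw [← Category.assoc] at this
    exact congrArg CommRingCat.Hom.hom this
  have cDC : φ1.comp cC = cD.comp (Algebra.TensorProduct.includeRight : C →ₐ[A] D).toRingHom := by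
    have := stalkMap_chartMap kD P (pullback.fst f g) kC _ wDC PC eC
    rw [← Category.assoc] at this
    exact congrArg CommRingCat.Hom.hom this
  have cCA : φf.comp cA = cC.comp (algebraMap A C) := by
    have : (chartMap kA PA ≫ (S.presheaf.stalkCongr (.of_eq eA)).hom) ≫ f.stalkMap _ =
        CommRingCat.ofHom (algebraMap A C) ≫ chartMap kC PC ≫ (X.presheaf.stalkCongr (.of_eq eC)).hom := by
      apply Spec.map_injective
      rw [← cancel_mono kA]
      simp only [Spec.map_comp, Category.assoc, SpecMap_chartMap, ← wC, TopCat.Presheaf.stalkCongr_hom,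
        SpecMap_chartMap_assoc, Scheme.SpecMap_stalkSpecializes_fromSpecStalk,
        Scheme.SpecMap_stalkSpecializes_fromSpecStalk_assoc, Scheme.SpecMap_stalkMap_fromSpecStalk]
    exact congrArg CommRingCat.Hom.hom this
  have cBA : φg.comp cA = cB.comp (algebraMap A B) := by
    have : (chartMap kA PA ≫ (S.presheaf.stalkCongr (.of_eq eA)).hom) ≫
        (S.presheaf.stalkCongr (.of_eq eg)).hom ≫ g.stalkMap _ =
        CommRingCat.ofHom (algebraMap A B) ≫ chartMap kB PB ≫ (S'.presheaf.stalkCongr (.of_eq eB)).hom := by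
      apply Spec.map_injective
      rw [← cancel_mono kA]
      simp only [Spec.map_comp, Category.assoc, SpecMap_chartMap, ← wB, TopCat.Presheaf.stalkCongr_hom,
        SpecMap_chartMap_assoc, Scheme.SpecMap_stalkSpecializes_fromSpecStalk,
        Scheme.SpecMap_stalkSpecializes_fromSpecStalk_assoc, Scheme.SpecMap_stalkMap_fromSpecStalk]
    exact congrArg CommRingCat.Hom.hom this
  haveI : PB.asIdeal.LiesOver PA.asIdeal := ⟨by
    show ((P.asIdeal.comap (Algebra.TensorProduct.includeRight : C →ₐ[A] D).toRingHom).comap (algebraMap A C)) =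
      (P.asIdeal.comap (algebraMap B D)).comap (algebraMap A B)
    rw [Ideal.comap_comap, Ideal.comap_comap]
    congr 1
    refine RingHom.ext fun a => ?_
    simp [D, Algebra.TensorProduct.algebraMap_apply, Algebra.algebraMap_eq_smul_one, TensorProduct.smul_tmul]⟩
  haveI : PC.asIdeal.LiesOver PA.asIdeal := ⟨rfl⟩
  haveI : pD.LiesOver PB.asIdeal := ⟨rfl⟩
  letI : Algebra (Localization.AtPrime PA.asIdeal) RS := ((algebraMap OA RS).comp lA.toRingHom).toAlgebra
  letI : Algebra (Localization.AtPrime PB.asIdeal) RS' := ((algebraMap OB RS').comp lB.toRingHom).toAlgebra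
  letI : Algebra (Localization.AtPrime PC.asIdeal) RX := ((algebraMap OC RX).comp lC.toRingHom).toAlgebra
  letI : Algebra (Localization.AtPrime pD) RX' :=
    ((algebraMap ((pullback f g).presheaf.stalk x') RX').comp lD.toRingHom).toAlgebra
  haveI : IsLocalHom (algebraMap (Localization.AtPrime PA.asIdeal) RS) :=
    haveI : IsLocalHom lA.toRingHom := ⟨fun a ha => (isUnit_map_iff lA a).1 ha⟩
    RingHom.isLocalHom_comp _ _
  haveI : IsLocalHom (algebraMap (Localization.AtPrime PB.asIdeal) RS') :=
    haveI : IsLocalHom lB.toRingHom := ⟨fun a ha => (isUnit_map_iff lB a).1 ha⟩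
    RingHom.isLocalHom_comp _ _
  haveI : IsLocalHom (algebraMap (Localization.AtPrime PC.asIdeal) RX) :=
    haveI : IsLocalHom lC.toRingHom := ⟨fun a ha => (isUnit_map_iff lC a).1 ha⟩
    RingHom.isLocalHom_comp _ _
  haveI : IsLocalHom (algebraMap (Localization.AtPrime pD) RX') :=
    haveI : IsLocalHom lD.toRingHom := ⟨fun a ha => (isUnit_map_iff lD a).1 ha⟩
    RingHom.isLocalHom_comp _ _
  haveI := isStrictHenselization_comp_equiv (R := RS) lA rfl
  haveI := isStrictHenselization_comp_equiv (R := RS') lB rfl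
  haveI := isStrictHenselization_comp_equiv (R := RX) lC rfl
  haveI := isStrictHenselization_comp_equiv (R := RX') lD rfl
  letI : Algebra A RS := ((algebraMap OA RS).comp cA).toAlgebra
  letI : Algebra B RS' := ((algebraMap OB RS').comp cB).toAlgebra
  letI : Algebra C RX := ((algebraMap OC RX).comp cC).toAlgebra
  letI : Algebra D RX' := ((algebraMap ((pullback f g).presheaf.stalk x') RX').comp cD).toAlgebra
  letI : Algebra A RS' := (((algebraMap OB RS').comp cB).comp (algebraMap A B)).toAlgebra
  letI : Algebra A RX := (((algebraMap OC RX).comp cC).comp (algebraMap A C)).toAlgebra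
  letI : Algebra B RX' := ((algebraMap RS' RX').comp ((algebraMap OB RS').comp cB)).toAlgebra
  letI : Algebra RS RS' := α.toAlgebra
  letI : Algebra RX RX' := μ.toAlgebra
  letI : Algebra RS RX' := ((algebraMap RS' RX').comp α).toAlgebra
  haveI : IsScalarTower A (Localization.AtPrime PA.asIdeal) RS := IsScalarTower.of_algebraMap_eq fun a => rfl
  haveI : IsScalarTower B (Localization.AtPrime PB.asIdeal) RS' := IsScalarTower.of_algebraMap_eq fun a => rfl
  haveI : IsScalarTower C (Localization.AtPrime PC.asIdeal) RX := IsScalarTower.of_algebraMap_eq fun a => rfl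
  haveI : IsScalarTower D (Localization.AtPrime pD) RX' := IsScalarTower.of_algebraMap_eq fun a => rfl
  haveI : IsScalarTower A B RS' := IsScalarTower.of_algebraMap_eq fun a => rfl
  haveI : IsScalarTower A C RX := IsScalarTower.of_algebraMap_eq fun a => rfl
  haveI : IsScalarTower A RS RS' := IsScalarTower.of_algebraMap_eq fun a =>
    ((RingHom.congr_fun hα (cA a)).trans (congrArg (algebraMap OB RS') (RingHom.congr_fun cBA a))).symm
  haveI : IsScalarTower A RS RX := IsScalarTower.of_algebraMap_eq fun a =>
    ((RingHom.congr_fun hβ (cA a)).trans (congrArg (algebraMap OC RX) (RingHom.congr_fun cCA a))).symm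
  haveI : IsScalarTower B RS' RX' := IsScalarTower.of_algebraMap_eq fun a => rfl
  haveI : IsScalarTower B D RX' := IsScalarTower.of_algebraMap_eq fun a =>
    (RingHom.congr_fun hc (cB a)).trans (congrArg (algebraMap _ RX') (RingHom.congr_fun cDB a))
  haveI : IsScalarTower RS RS' RX' := IsScalarTower.of_algebraMap_eq fun a => rfl
  haveI : IsScalarTower RS RX RX' := IsScalarTower.of_algebraMap_eq fun a => (RingHom.congr_fun hμβ a).symm
  haveI : IsLocalHom (algebraMap RS RS') := hαl
  haveI : IsLocalHom (algebraMap RX RX') := hμl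
  have hint : Algebra.IsIntegral RS RS' :=
    Groth.Agent.Hensel.isIntegral_strict_of_subalgebras A B PA.asIdeal PB.asIdeal RS RS' hB
  refine ⟨hint.isIntegral, μ, ?_⟩
  let φ := Algebra.TensorProduct.lift (IsScalarTower.toAlgHom RS RS' RX')
    (IsScalarTower.toAlgHom RS RX RX') (fun _ _ => Commute.all _ _)
  have hb : Function.Bijective φ :=
    S9467.result A B C PA.asIdeal PB.asIdeal PC.asIdeal pD rfl RS RS' RX RX'
      (fun c => (RingHom.congr_fun hμ (cC c)).trans (congrArg (algebraMap _ RX') (RingHom.congr_fun cDC c))) hB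
  refine isPullback_SpecMap_of_isPushout _ _ _ _ ?_
  refine (CommRingCat.isPushout_tensorProduct RS RS' RX).of_iso (Iso.refl _) (Iso.refl _) (Iso.refl _)
    (RingEquiv.ofBijective φ.toRingHom hb).toCommRingCatIso (by simp; try rfl) (by simp; try rfl) ?_ ?_
  · refine CommRingCat.hom_ext (RingHom.ext fun r => ?_)
    show φ (r ⊗ₜ[RS] (1 : RX)) = algebraMap RS' RX' r
    simp [φ]
  · refine CommRingCat.hom_ext (RingHom.ext fun r => ?_)
    show φ ((1 : RS') ⊗ₜ[RS] r) = algebraMap RX RX' r
    simp [φ]

end Groth.Agent.LocAcycLib
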