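import Groth.Agent.LocAcycLib.StrictBC
import Groth.Agent.EtAcycLib.Compose
import Groth.Prelude.Def_EtRestW
import Mathlib.AlgebraicGeometry.Morphisms.QuasiFinite
import Mathlib.AlgebraicGeometry.PullbackCarrier

/-!
# Local acyclicity and quasi-finite or integral base change
-/

set_option autoImplicit false
set_option linter.unusedSectionVars false
set_option linter.style.haveILetI false
set_option backward.isDefEq.respectTransparency false
set_option backward.isDefEq.respectTransparency.types false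

universe u

open CategoryTheory CategoryTheory.Limits AlgebraicGeometry IsLocalRing TensorProduct Abelian

noncomputable section

namespace Groth.Agent.LocAcycLib

attribute [local instance] EtFound.pull_preservesFiniteLimits

theorem bijective_pull_const {X Y : Scheme.{u}} (g : X ⟶ Y) [IsIso g] (M : Type) [AddCommGroup M] (q : ℕ) :
    ∃ e : EtCoh.H Y (EtCoh.const Y M) q ≃+ EtCoh.H X (EtCoh.const X M) q, True := by
  let a := EtCore.Hpull g (EtCoh.const Y M) q
  let c : EtCoh.H X ((EtCoh.pull g).obj (EtCoh.const Y M)) q →+ EtCoh.H X (EtCoh.const X M) q :=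
    AddMonoidHom.mk' (fun x => x.comp (Ext.mk₀ (EtCore.pullConst g M).hom) (add_zero q))
      fun _ _ => Ext.add_comp _ _ _ _
  exact ⟨AddEquiv.ofBijective (c.comp a) ((EtAcycLib.bijective_comp_mk₀ (EtCore.pullConst g M)).comp
    (EtAcycLib.bijective_Hpull_of_isIso g (EtCoh.const Y M) q)), trivial⟩

theorem transport_point {Z Z' : Type u} [CommRing Z] [CommRing Z'] (e : Z ≃+* Z') (n : ℕ)
    (h : (∀ q : ℕ, 0 < q → Subsingleton (EtCoh.H (Spec (CommRingCat.of Z)) (EtCoh.const (Spec (CommRingCat.of Z)) (ZMod n)) q)) ∧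
      Nonempty (EtCoh.H (Spec (CommRingCat.of Z)) (EtCoh.const (Spec (CommRingCat.of Z)) (ZMod n)) 0 ≃+ ZMod n)) :
    (∀ q : ℕ, 0 < q → Subsingleton (EtCoh.H (Spec (CommRingCat.of Z')) (EtCoh.const (Spec (CommRingCat.of Z')) (ZMod n)) q)) ∧
      Nonempty (EtCoh.H (Spec (CommRingCat.of Z')) (EtCoh.const (Spec (CommRingCat.of Z')) (ZMod n)) 0 ≃+ ZMod n) := by
  let g : Spec (CommRingCat.of Z') ⟶ Spec (CommRingCat.of Z) := (Scheme.Spec.mapIso e.toCommRingCatIso.op).hom
  refine ⟨fun q hq => ?_, ?_⟩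
  · obtain ⟨E, -⟩ := bijective_pull_const g (ZMod n) q
    haveI := h.1 q hq
    exact E.symm.toEquiv.subsingleton
  · obtain ⟨E, -⟩ := bijective_pull_const g (ZMod n) 0
    obtain ⟨e0⟩ := h.2
    exact ⟨E.symm.trans e0⟩

/-- The chart condition: finitely many elements lie in a quasi-finite subalgebra. -/
def IndQF (g₁ : Type u) [CommRing g₁] (g₂ : Type u) [CommRing g₂] [Algebra g₁ g₂] : Prop :=
  ∀ s : Finset g₂, ∃ B₀ : Subalgebra g₁ g₂, (↑s : Set g₂) ⊆ ↑B₀ ∧
    Algebra.FiniteType g₁ ↥B₀ ∧ Algebra.QuasiFinite g₁ ↥B₀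

theorem indQF_of_isIntegral (A B : Type u) [CommRing A] [CommRing B] [Algebra A B] [Algebra.IsIntegral A B] :
    IndQF A B := fun s => by
  have : Module.Finite A (Algebra.adjoin A (s : Set B)) :=
    ⟨(Submodule.fg_top _).mpr (fg_adjoin_of_finite s.finite_toSet fun x _ => Algebra.IsIntegral.isIntegral x)⟩
  exact ⟨Algebra.adjoin A (s : Set B), Algebra.subset_adjoin, inferInstance, inferInstance⟩

theorem indQF_of_quasiFinite (A B : Type u) [CommRing A] [CommRing B] [Algebra A B] [Algebra.FiniteType A B]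
    [Algebra.QuasiFinite A B] : IndQF A B := fun s => by
  haveI : Algebra.FiniteType A ↥(⊤ : Subalgebra A B) := Algebra.FiniteType.equiv ‹_› Subalgebra.topEquiv.symm
  haveI : Algebra.QuasiFinite A ↥(⊤ : Subalgebra A B) :=
    Algebra.QuasiFinite.of_surjective_algHom Subalgebra.topEquiv.symm.toAlgHom Subalgebra.topEquiv.symm.surjective
  exact ⟨⊤, fun _ _ => trivial, inferInstance, inferInstance⟩

/-- Local acyclicity is stable under base change along morphisms that are locally ind-quasi-finite. -/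
theorem isLocallyAcyclic_baseChange {X S S' : Scheme.{u}} (f : X ⟶ S) (g : S' ⟶ S) (hf : EtRest.IsLocallyAcyclic f)
    (hg : ∀ (U : S.Opens), IsAffineOpen U → ∀ s' : S', s' ∈ g ⁻¹ᵁ U → ∃ (W : S'.Opens), IsAffineOpen W ∧ s' ∈ W ∧
      ∃ e : W ≤ g ⁻¹ᵁ U, @IndQF Γ(S, U) _ Γ(S', W) _ (g.appLE U W e).hom.toAlgebra) :
    EtRest.IsLocallyAcyclic (pullback.snd f g) := by
  intro x' RS' RX' _ _ _ _ _ _ _ _ _ _ _ _ hc Ω _ _ _ n hn
  let x := pullback.fst f g x'
  let s' := pullback.snd f g x'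
  obtain ⟨_, ⟨U, hU, rfl⟩, hxU, -⟩ := S.isBasis_affineOpens.exists_subset_of_mem_open (Set.mem_univ (f x)) isOpen_univ
  have hs' : s' ∈ g ⁻¹ᵁ U := by
    show g s' ∈ U
    have e : f x = g s' := pt_congr pullback.condition x'
    rw [← e]
    exact hxU
  obtain ⟨W, hW, hsW, hWU, hBq⟩ := hg U hU s' hs'
  obtain ⟨_, ⟨V, hV, rfl⟩, hxV, hVU⟩ := X.isBasis_affineOpens.exists_subset_of_mem_open
    (show x ∈ f ⁻¹ᵁ U from hxU) (f ⁻¹ᵁ U).isOpen
  letI : Algebra Γ(S, U) Γ(S', W) := (g.appLE U W hWU).hom.toAlgebra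
  letI : Algebra Γ(S, U) Γ(X, V) := (f.appLE U V hVU).hom.toAlgebra
  have wB : hW.fromSpec ≫ g = Spec.map (CommRingCat.ofHom (algebraMap Γ(S, U) Γ(S', W))) ≫ hU.fromSpec :=
    (IsAffineOpen.SpecMap_appLE_fromSpec g hU hW hWU).symm
  have wC : hV.fromSpec ≫ f = Spec.map (CommRingCat.ofHom (algebraMap Γ(S, U) Γ(X, V))) ≫ hU.fromSpec :=
    (IsAffineOpen.SpecMap_appLE_fromSpec f hU hV hVU).symm
  let mB : Spec (CommRingCat.of Γ(S', W)) ⟶ S' := hW.fromSpec
  let mC : Spec (CommRingCat.of Γ(X, V)) ⟶ X := hV.fromSpec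
  let mA : Spec (CommRingCat.of Γ(S, U)) ⟶ S := hU.fromSpec
  let D := Γ(S', W) ⊗[Γ(S, U)] Γ(X, V)
  let mp : pullback (Spec.map (CommRingCat.ofHom (algebraMap Γ(S, U) Γ(S', W))))
      (Spec.map (CommRingCat.ofHom (algebraMap Γ(S, U) Γ(X, V)))) ⟶ pullback g f :=
    pullback.map _ _ _ _ mB mC mA wB.symm wC.symm
  let kD : Spec (CommRingCat.of D) ⟶ pullback f g :=
    (pullbackSpecIso Γ(S, U) Γ(S', W) Γ(X, V)).inv ≫ mp ≫ (pullbackSymmetry g f).hom
  have wDB : kD ≫ pullback.snd f g = Spec.map (CommRingCat.ofHom (algebraMap Γ(S', W) D)) ≫ mB := by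
    simp only [kD, mp, Category.assoc, pullbackSymmetry_hom_comp_snd, pullback.map, pullback.lift_fst]
    rw [← Category.assoc, pullbackSpecIso_inv_fst']
  have wDC : kD ≫ pullback.fst f g =
      Spec.map (CommRingCat.ofHom (Algebra.TensorProduct.includeRight : Γ(X, V) →ₐ[Γ(S, U)] D).toRingHom) ≫ mC := by
    simp only [kD, mp, Category.assoc, pullbackSymmetry_hom_comp_fst, pullback.map, pullback.lift_snd]
    rw [← Category.assoc, pullbackSpecIso_inv_snd]
    rfl
  have hx' : x' ∈ Set.range kD := by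
    have hz : (pullbackSymmetry g f).inv x' ∈ Set.range mp := by
      rw [Scheme.Pullback.range_map]
      refine ⟨?_, ?_⟩
      · show pullback.fst g f ((pullbackSymmetry g f).inv x') ∈ Set.range hW.fromSpec
        rw [hW.range_fromSpec, ← Scheme.Hom.comp_apply, pullbackSymmetry_inv_comp_fst]
        exact hsW
      · show pullback.snd g f ((pullbackSymmetry g f).inv x') ∈ Set.range hV.fromSpec
        rw [hV.range_fromSpec, ← Scheme.Hom.comp_apply, pullbackSymmetry_inv_comp_snd]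
        exact hxV
    obtain ⟨y, hy⟩ := hz
    refine ⟨(pullbackSpecIso Γ(S, U) Γ(S', W) Γ(X, V)).hom y, ?_⟩
    have h1 : (pullbackSpecIso Γ(S, U) Γ(S', W) Γ(X, V)).hom ≫ kD = mp ≫ (pullbackSymmetry g f).hom := by
      simp [kD]
    refine (Scheme.Hom.comp_apply _ kD y).symm.trans ((pt_congr h1 y).trans ?_)
    rw [Scheme.Hom.comp_apply, hy]
    exact (Scheme.Hom.comp_apply _ _ x').symm.trans (pt_congr (Iso.inv_hom_id _) x')
  obtain ⟨P, rfl⟩ := hx'
  obtain ⟨RS, RX, _, _, _, _, _, _, _, _, _, _, _, _, α, hβ, hex⟩ :=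
    exists_tensor_equiv_of_charts f g hBq mA mB mC kD wB wC wDB wDC P RS' RX' hc
  letI : Algebra RS Ω := ((algebraMap RS' Ω).comp α).toAlgebra
  obtain ⟨e⟩ := hex Ω rfl
  have hn' : (n : X.residueField (pullback.fst f g (kD P))) ≠ 0 := fun h => by
    apply hn
    have := congrArg ((pullback.fst f g).residueFieldMap (kD P)).hom h
    rwa [map_natCast, map_zero] at this
  exact transport_point e n (hf (pullback.fst f g (kD P)) RS RX hβ Ω n hn')

end Groth.Agent.LocAcycLib
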