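import Groth.Agent.LocAcycLib.StrictBC
import Groth.Agent.BcQCalc.Criterion
import Groth.Agent.SiteBase.LerayTop
import Groth.Agent.S8537
import Groth.Prelude.Def_SGA4h

/-!
# Local acyclicity and the vanishing-cycle sheaves on the closed fibre
-/

set_option autoImplicit false
set_option linter.unusedSectionVars false
set_option linter.style.haveILetI false
set_option backward.isDefEq.respectTransparency false
set_option backward.isDefEq.respectTransparency.types false

universe u

open CategoryTheory CategoryTheory.Limits AlgebraicGeometry IsLocalRing TensorProduct Abelian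

noncomputable section

namespace Groth.Agent.LocAcycLib

attribute [local instance] EtFound.pull_preservesFiniteLimits

theorem specOf_closedPoint (S : Scheme.{u}) (s : S) (R : Type u) [CommRing R] [IsLocalRing R]
    [Algebra (S.presheaf.stalk s) R] [IsLocalHom (algebraMap (S.presheaf.stalk s) R)] :
    Hens2.specOf S s R (closedPoint R) = s := by
  rw [Hens2.specOf, Scheme.Hom.comp_apply]
  have h : Spec.map (CommRingCat.ofHom (algebraMap (S.presheaf.stalk s) R)) (closedPoint R) =
      closedPoint (S.presheaf.stalk s) := IsLocalRing.comap_closedPoint (algebraMap (S.presheaf.stalk s) R)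
  rw [h]
  exact Scheme.fromSpecStalk_closedPoint

section Strict

variable {X S : Scheme.{u}} (f : X ⟶ S) {RS : Type u} [CommRing RS] [IsLocalRing RS]

/-- A strict localization of `X` at a point of the closed fibre of `X ×_S Spec R_S` is one of that fibre product. -/
theorem exists_strict_lift {X' : Scheme.{u}} (f' : X' ⟶ Spec (CommRingCat.of RS)) (p : X' ⟶ X) (x' : X')
    (hx' : f' x' = closedPoint RS)
    [Algebra (S.presheaf.stalk (f (p x'))) RS] [IsLocalHom (algebraMap (S.presheaf.stalk (f (p x'))) RS)]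
    [_root_.Hensel.IsStrictHenselization (S.presheaf.stalk (f (p x'))) RS]
    (cX : IsPullback p f' f (Hens2.specOf S (f (p x')) RS)) :
    ∃ (RX : Type u) (_ : CommRing RX) (_ : IsLocalRing RX) (_ : Algebra (X.presheaf.stalk (p x')) RX)
      (_ : IsLocalHom (algebraMap (X.presheaf.stalk (p x')) RX))
      (_ : _root_.Hensel.IsStrictHenselization (X.presheaf.stalk (p x')) RX)
      (_ : Algebra RS RX) (_ : IsLocalHom (algebraMap RS RX))
      (_ : Algebra (X'.presheaf.stalk x') RX) (_ : IsLocalHom (algebraMap (X'.presheaf.stalk x') RX))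
      (_ : _root_.Hensel.IsStrictHenselization (X'.presheaf.stalk x') RX),
      (algebraMap RS RX).comp (algebraMap (S.presheaf.stalk (f (p x'))) RS) =
          (algebraMap (X.presheaf.stalk (p x')) RX).comp (f.stalkMap (p x')).hom ∧
        Hens2.specOf X' x' RX ≫ p = Hens2.specOf X (p x') RX ∧
        Hens2.specOf X' x' RX ≫ f' = Spec.map (CommRingCat.ofHom (algebraMap RS RX)) := by
  obtain ⟨RX, _, _, _, _, hRX⟩ := BcQCalc.exists_strictHens (X.presheaf.stalk (p x'))
  obtain ⟨R', _, _, _, _, hR'⟩ := BcQCalc.exists_strictHens (X'.presheaf.stalk x')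
  haveI : HenselianLocalRing R' := _root_.Hensel.IsStrictHenselization.henselian (R := X'.presheaf.stalk x')
  obtain ⟨μ, hμl, hμ⟩ := BcQCalc.exists_strictMap (R := RX) (R' := R') (p.stalkMap x').hom
  haveI := hμl
  let f₁ : Spec (CommRingCat.of R') ⟶ Spec (CommRingCat.of RS) := Hens2.specOf X' x' R' ≫ f'
  let ν : RS →+* R' := (Spec.preimage f₁).hom
  have hν' : Spec.map (CommRingCat.ofHom ν) = f₁ := Spec.map_preimage f₁
  haveI : IsLocalHom ν := by
    have h1 : f₁ (closedPoint R') = closedPoint RS := by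
      rw [Scheme.Hom.comp_apply, specOf_closedPoint]
      exact hx'
    refine ⟨fun a ha => ?_⟩
    by_contra hn
    have h2 : a ∈ (Spec.map (CommRingCat.ofHom ν) (closedPoint R')).asIdeal := by
      rw [hν', h1]
      exact (IsLocalRing.mem_maximalIdeal a).2 hn
    exact (IsLocalRing.mem_maximalIdeal (ν a)).1 h2 ha
  have hbase : ν.comp (algebraMap (S.presheaf.stalk (f (p x'))) RS) =
      (μ.comp (algebraMap (X.presheaf.stalk (p x')) RX)).comp (f.stalkMap (p x')).hom := by
    rw [hμ]
    have : CommRingCat.ofHom (algebraMap (S.presheaf.stalk (f (p x'))) RS) ≫ CommRingCat.ofHom ν =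
        f.stalkMap (p x') ≫ p.stalkMap x' ≫ CommRingCat.ofHom (algebraMap (X'.presheaf.stalk x') R') := by
      apply Spec.map_injective
      rw [← cancel_mono (S.fromSpecStalk _)]
      simp only [Spec.map_comp, Category.assoc, hν', Scheme.SpecMap_stalkMap_fromSpecStalk,
        Scheme.SpecMap_stalkMap_fromSpecStalk_assoc]
      rw [cX.w]
      simp only [f₁, Hens2.specOf, Category.assoc]
    exact congrArg CommRingCat.Hom.hom this
  obtain ⟨β, hβl, hβ, hμβ⟩ := exists_lift (O := S.presheaf.stalk (f (p x'))) (R := RS)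
    (O₁ := X.presheaf.stalk (p x')) (R₁ := RX) (f.stalkMap (p x')).hom μ ν hbase
  haveI := hβl
  haveI : HenselianLocalRing RX := _root_.Hensel.IsStrictHenselization.henselian (R := X.presheaf.stalk (p x'))
  have hψ := BcQCalc.specMap_psi f (p x') RS RX β hβ
  let L : Spec (CommRingCat.of RX) ⟶ X' :=
    cX.lift (Hens2.specOf X (p x') RX) (Spec.map (CommRingCat.ofHom β)) hψ.symm
  have hL1 : L ≫ p = Hens2.specOf X (p x') RX := cX.lift_fst _ _ _
  have hL2 : L ≫ f' = Spec.map (CommRingCat.ofHom β) := cX.lift_snd _ _ _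
  have hμL : Spec.map (CommRingCat.ofHom μ) ≫ L = Hens2.specOf X' x' R' := by
    refine cX.hom_ext ?_ ?_
    · rw [Category.assoc, hL1, Hens2.specOf, Hens2.specOf, Category.assoc, ← Spec.map_comp_assoc,
        show CommRingCat.ofHom (algebraMap (X.presheaf.stalk (p x')) RX) ≫ CommRingCat.ofHom μ =
          p.stalkMap x' ≫ CommRingCat.ofHom (algebraMap (X'.presheaf.stalk x') R') from CommRingCat.hom_ext hμ,
        Spec.map_comp_assoc, Scheme.SpecMap_stalkMap_fromSpecStalk]
    · rw [Category.assoc, hL2, ← Spec.map_comp]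
      refine Eq.trans ?_ hν'
      exact congrArg Spec.map (CommRingCat.hom_ext hμβ)
  have hLx : L (closedPoint RX) = x' := by
    have h1 := pt_congr hμL (closedPoint R')
    rw [Scheme.Hom.comp_apply, specOf_closedPoint] at h1
    have h2 : Spec.map (CommRingCat.ofHom μ) (closedPoint R') = closedPoint RX :=
      IsLocalRing.comap_closedPoint μ
    rwa [h2] at h1
  let ι : X'.presheaf.stalk x' →+* RX :=
    ((X'.presheaf.stalkCongr (.of_eq hLx.symm)).hom ≫ Scheme.stalkClosedPointTo L).hom
  haveI : IsLocalHom ι := by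
    dsimp only [ι]
    rw [CommRingCat.hom_comp]
    exact RingHom.isLocalHom_comp _ _
  letI : Algebra (X'.presheaf.stalk x') RX := ι.toAlgebra
  letI : Algebra RS RX := β.toAlgebra
  haveI : IsLocalHom (algebraMap RS RX) := hβl
  haveI : IsLocalHom (algebraMap (X'.presheaf.stalk x') RX) := ‹IsLocalHom ι›
  have hι : Hens2.specOf X' x' RX = L := by
    show Spec.map (CommRingCat.ofHom ι) ≫ X'.fromSpecStalk x' = L
    dsimp only [ι]
    rw [CommRingCat.ofHom_hom, Spec.map_comp, Category.assoc, TopCat.Presheaf.stalkCongr_hom,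
      Scheme.SpecMap_stalkSpecializes_fromSpecStalk]
    exact Scheme.Spec_stalkClosedPointTo_fromSpecStalk L
  have hιp : ι.comp (p.stalkMap x').hom = algebraMap (X.presheaf.stalk (p x')) RX := by
    have : p.stalkMap x' ≫ CommRingCat.ofHom ι = CommRingCat.ofHom (algebraMap (X.presheaf.stalk (p x')) RX) := by
      apply Spec.map_injective
      rw [← cancel_mono (X.fromSpecStalk _), Spec.map_comp, Category.assoc, Scheme.SpecMap_stalkMap_fromSpecStalk]
      exact ((Category.assoc _ _ _).symm.trans (congrArg (· ≫ p) hι)).trans hL1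
    exact congrArg CommRingCat.Hom.hom this
  refine ⟨RX, inferInstance, inferInstance, inferInstance, inferInstance, hRX, β.toAlgebra, hβl, ι.toAlgebra,
    ‹IsLocalHom ι›, ?_, hβ, (congrArg (· ≫ p) hι).trans hL1, (congrArg (· ≫ f') hι).trans hL2⟩
  refine ⟨inferInstance, ⟨BcQCalc.isSepClosed_residueField_of_strict (X.presheaf.stalk (p x')) RX, ⟨fun z => ?_⟩⟩,
    fun T _ _ φ _ τ hτ => ?_⟩
  · haveI := (_root_.Hensel.IsStrictHenselization.isSepClosure (R := X.presheaf.stalk (p x')) (S := RX)).separable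
    let e := ResidueField.map (p.stalkMap x').hom
    have h1 : (minpoly (ResidueField (X.presheaf.stalk (p x'))) z).Separable :=
      Algebra.IsSeparable.isSeparable (ResidueField (X.presheaf.stalk (p x'))) z
    have hcomp : (algebraMap (ResidueField (X'.presheaf.stalk x')) (ResidueField RX)).comp e =
        algebraMap (ResidueField (X.presheaf.stalk (p x'))) (ResidueField RX) := by
      refine RingHom.ext fun a => ?_
      obtain ⟨a, rfl⟩ := residue_surjective a
      show ResidueField.map ι (ResidueField.map _ (residue _ a)) = ResidueField.map _ (residue _ a)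
      rw [ResidueField.map_residue, ResidueField.map_residue, ResidueField.map_residue]
      exact congrArg (residue RX) (RingHom.congr_fun hιp a)
    refine Polynomial.Separable.of_dvd (h1.map (f := e)) (minpoly.dvd _ _ ?_)
    rw [Polynomial.aeval_def, Polynomial.eval₂_map, hcomp, ← Polynomial.aeval_def]
    exact minpoly.aeval _ _
  · let φ' : X.presheaf.stalk (p x') →+* T := φ.comp (p.stalkMap x').hom
    haveI : IsLocalHom φ' := RingHom.isLocalHom_comp _ _
    have hτ' : τ.comp (ResidueField.map (algebraMap (X.presheaf.stalk (p x')) RX)) = ResidueField.map φ' := by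
      refine RingHom.ext fun a => ?_
      obtain ⟨a, rfl⟩ := residue_surjective a
      have h1 := RingHom.congr_fun hτ (residue _ ((p.stalkMap x').hom a))
      rw [RingHom.comp_apply, ResidueField.map_residue, ResidueField.map_residue] at h1
      rw [RingHom.comp_apply, ResidueField.map_residue, ResidueField.map_residue]
      refine (congrArg (fun r => τ (residue RX r)) (RingHom.congr_fun hιp a).symm).trans h1
    obtain ⟨g, ⟨hg1, hg2⟩, hu⟩ :=
      _root_.Hensel.IsStrictHenselization.universal (R := X.presheaf.stalk (p x')) (S := RX) T φ' τ hτ'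
    haveI hgl : IsLocalHom g := ⟨fun a ha => by
      by_contra hn
      have h0 : residue RX a = 0 := (residue_eq_zero_iff a).2 hn
      have h1 : residue T (g a) = 0 := by rw [hg2, h0, map_zero]
      exact (residue_eq_zero_iff (g a)).1 h1 ha⟩
    refine ⟨g, ⟨?_, hg2⟩, fun g' hg' => hu g' ⟨?_, hg'.2⟩⟩
    · let fs : RS →+* X'.presheaf.stalk x' := (Spec.preimage (X'.fromSpecStalk x' ≫ f')).hom
      have hfs : Spec.map (CommRingCat.ofHom fs) = X'.fromSpecStalk x' ≫ f' := Spec.map_preimage _
      have hιfs : ι.comp fs = β := by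
        have : CommRingCat.ofHom fs ≫ CommRingCat.ofHom ι = CommRingCat.ofHom β := by
          apply Spec.map_injective
          rw [Spec.map_comp, hfs]
          exact ((Category.assoc _ _ _).symm.trans (congrArg (· ≫ f') hι)).trans hL2
        exact congrArg CommRingCat.Hom.hom this
      haveI : IsLocalHom fs := by
        haveI : IsLocalHom (ι.comp fs) := by rw [hιfs]; exact hβl
        exact ⟨fun a ha => IsLocalHom.map_nonunit (f := ι.comp fs) a (ha.map ι)⟩
      haveI : IsLocalHom (g.comp β) := RingHom.isLocalHom_comp _ _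
      haveI : IsLocalHom (φ.comp fs) := RingHom.isLocalHom_comp _ _
      have hfsO : fs.comp (algebraMap (S.presheaf.stalk (f (p x'))) RS) =
          ((p.stalkMap x').hom).comp (f.stalkMap (p x')).hom := by
        have : CommRingCat.ofHom (algebraMap (S.presheaf.stalk (f (p x'))) RS) ≫ CommRingCat.ofHom fs =
            f.stalkMap (p x') ≫ p.stalkMap x' := by
          apply Spec.map_injective
          rw [← cancel_mono (S.fromSpecStalk _)]
          simp only [Spec.map_comp, Category.assoc, hfs, Scheme.SpecMap_stalkMap_fromSpecStalk,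
            Scheme.SpecMap_stalkMap_fromSpecStalk_assoc]
          rw [cX.w]
        exact congrArg CommRingCat.Hom.hom this
      have hRS : g.comp β = φ.comp fs := by
        refine eq_of_residue (O := S.presheaf.stalk (f (p x'))) ?_ fun a => ?_
        · rw [RingHom.comp_assoc, hβ, ← RingHom.comp_assoc, hg1, RingHom.comp_assoc, RingHom.comp_assoc, hfsO]
        · have h1 := RingHom.congr_fun hτ (residue _ (fs a))
          rw [RingHom.comp_apply, ResidueField.map_residue, ResidueField.map_residue] at h1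
          rw [RingHom.comp_apply, RingHom.comp_apply, hg2, ← h1, ← hιfs]
          rfl
      have : CommRingCat.ofHom ι ≫ CommRingCat.ofHom g = CommRingCat.ofHom φ := by
        apply Spec.map_injective
        rw [← cancel_mono (X'.fromSpecStalk x'), Spec.map_comp, Category.assoc]
        refine (congrArg (Spec.map (CommRingCat.ofHom g) ≫ ·) hι).trans (cX.hom_ext ?_ ?_)
        · rw [Category.assoc, hL1, Category.assoc, Hens2.specOf, ← Spec.map_comp_assoc,
            show CommRingCat.ofHom (algebraMap (X.presheaf.stalk (p x')) RX) ≫ CommRingCat.ofHom g =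
              p.stalkMap x' ≫ CommRingCat.ofHom φ from CommRingCat.hom_ext hg1,
            Spec.map_comp_assoc, Scheme.SpecMap_stalkMap_fromSpecStalk]
        · rw [Category.assoc, hL2, Category.assoc, ← hfs, ← Spec.map_comp, ← Spec.map_comp]
          exact congrArg Spec.map (CommRingCat.hom_ext hRS)
      exact congrArg CommRingCat.Hom.hom this
    · rw [← hιp, ← RingHom.comp_assoc]
      exact congrArg (fun r : X'.presheaf.stalk x' →+* T => r.comp (p.stalkMap x').hom) hg'.1

end Strict

/-- The counit for the identity. -/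
def pushId (X : Scheme.{u}) : EtCoh.push (𝟙 X) ≅ 𝟭 (EtCoh.Ab X) :=
  ((EtCoh.pullPushAdj (𝟙 X)).ofNatIsoLeft (EtDescSplit.pullId X)).rightAdjointUniq Adjunction.id

theorem isIso_counit_id (X : Scheme.{u}) : IsIso (EtCoh.pullPushAdj (𝟙 X)).counit := by
  haveI : (EtCoh.push (𝟙 X)).Full := Functor.Full.of_iso (pushId X).symm
  haveI : (EtCoh.push (𝟙 X)).Faithful := Functor.Faithful.of_iso (pushId X).symm
  infer_instance

theorem isZero_Rpush_id (X : Scheme.{u}) (F : EtCoh.Ab X) (q : ℕ) :
    IsZero ((EtCoh.Rpush (𝟙 X) (q + 1)).obj F) := by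
  haveI : (EtCoh.push (𝟙 X)).IsRightAdjoint := (EtCoh.pullPushAdj (𝟙 X)).isRightAdjoint
  haveI : PreservesFiniteColimits (EtCoh.push (𝟙 X)) :=
    ⟨fun J _ _ => preservesColimitsOfShape_of_natIso (pushId X).symm⟩
  exact LerayDegen.isZero_rightDerived_of_exact _ F q

section Stalks

variable {X' Xt Xs : Scheme.{u}} (h : Xt ⟶ X') (i : Xs ⟶ X') (G : EtCoh.Ab X')

theorem isIso_pull_unit_of_bcQ (w : h ≫ 𝟙 X' = h ≫ 𝟙 X')
    (hi : IsIso ((EtCoh.pull i).map (EtBC.bcQ (𝟙 X') (𝟙 X') h h w 0 G))) :
    IsIso ((EtCoh.pull i).map ((EtCoh.pullPushAdj h).unit.app G)) := by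
  haveI : (EtCoh.push (𝟙 X')).IsRightAdjoint := (EtCoh.pullPushAdj (𝟙 X')).isRightAdjoint
  haveI : (EtCoh.push h).IsRightAdjoint := (EtCoh.pullPushAdj h).isRightAdjoint
  haveI := isIso_counit_id X'
  have e := congrArg (EtCoh.pull i).map (EtBC.bcQ_zero_compat (𝟙 X') (𝟙 X') h h w G)
  rw [Functor.map_comp, Functor.map_comp] at e
  haveI : IsIso ((EtCoh.pull i).map (EtCoh.baseChange0 (𝟙 X') (𝟙 X') h h w G) ≫
      (EtCoh.pull i).map ((EtCoh.push h).toRightDerivedZero.app ((EtCoh.pull h).obj G))) := by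
    rw [← e]; infer_instance
  haveI h0 : IsIso ((EtCoh.pull i).map (EtCoh.baseChange0 (𝟙 X') (𝟙 X') h h w G)) :=
    IsIso.of_isIso_comp_right _ ((EtCoh.pull i).map ((EtCoh.push h).toRightDerivedZero.app ((EtCoh.pull h).obj G)))
  let θ := (EtCoh.pushComp (𝟙 X') h).hom.app ((EtCoh.pull h).obj G) ≫ (EtCoh.pushCongr w).hom.app _ ≫
    (EtCoh.pushComp (𝟙 X') h).inv.app _
  let u := (EtCoh.pullPushAdj h).unit.app G
  have e1 : EtCoh.baseChange0 (𝟙 X') (𝟙 X') h h w G =
      (EtCoh.pull (𝟙 X')).map ((EtCoh.push (𝟙 X')).map u) ≫ (EtCoh.pull (𝟙 X')).map θ ≫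
        (EtCoh.pullPushAdj (𝟙 X')).counit.app _ := by
    rw [EtCoh.baseChange0, Adjunction.homEquiv_counit, Functor.map_comp]
    exact Category.assoc _ _ _
  rw [e1, Functor.map_comp, Functor.map_comp] at h0
  haveI : IsIso ((EtCoh.pull i).map ((EtCoh.pull (𝟙 X')).map ((EtCoh.push (𝟙 X')).map u))) :=
    IsIso.of_isIso_comp_right _ ((EtCoh.pull i).map ((EtCoh.pull (𝟙 X')).map θ) ≫
      (EtCoh.pull i).map ((EtCoh.pullPushAdj (𝟙 X')).counit.app _))
  exact (NatIso.isIso_map_iff (Functor.isoWhiskerRight (asIso (EtCoh.pullPushAdj (𝟙 X')).counit) (EtCoh.pull i)) u).1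
    (by exact this)

/-- Checking on the closed fibre, stalk by stalk. -/
theorem isIso_pull_map {A B : EtCoh.Ab X'} (a : A ⟶ B)
    (H : ∀ (Ω : Type u) [Field Ω] [IsSepClosed Ω] (ξ : Spec (CommRingCat.of Ω) ⟶ Xs),
      IsIso ((EtCoh.stalk (ξ ≫ i)).map a)) : IsIso ((EtCoh.pull i).map a) :=
  (EtFound.isIso_iff_stalks _).2 fun Ω _ _ ξ =>
    (NatIso.isIso_map_iff (EtFound.sheafFiberPullIso (A := AddCommGrpCat.{u + 1}) i ξ) a).2 (H Ω ξ)

end Stalks

/-- Pullback to a geometric fibre of a strict localization, from local acyclicity. -/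
theorem bijective_stalk {X S : Scheme.{u}} (f : X ⟶ S) (F : EtCoh.Ab X) (hla : SGA4h.IsLARel f F)
    {RS : Type u} [CommRing RS] [IsLocalRing RS] {X' : Scheme.{u}} (f' : X' ⟶ Spec (CommRingCat.of RS))
    (p : X' ⟶ X) (x' : X') (hx' : f' x' = closedPoint RS)
    [Algebra (S.presheaf.stalk (f (p x'))) RS] [IsLocalHom (algebraMap (S.presheaf.stalk (f (p x'))) RS)]
    [_root_.Hensel.IsStrictHenselization (S.presheaf.stalk (f (p x'))) RS]
    (cX : IsPullback p f' f (Hens2.specOf S (f (p x')) RS))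
    (Ω : Type u) [Field Ω] [IsSepClosed Ω] (τ : RS →+* Ω)
    {Xt : Scheme.{u}} (h : Xt ⟶ X') [QuasiCompact h] [QuasiSeparated h] (ft : Xt ⟶ Spec (CommRingCat.of Ω))
    (ct : IsPullback h ft f' (Spec.map (CommRingCat.ofHom τ))) (w : h ≫ 𝟙 X' = h ≫ 𝟙 X') (q : ℕ) :
    ∃ (RX : Type u) (_ : CommRing RX) (_ : IsLocalRing RX) (_ : Algebra (X'.presheaf.stalk x') RX)
      (_ : IsLocalHom (algebraMap (X'.presheaf.stalk x') RX))
      (_ : _root_.Hensel.IsStrictHenselization (X'.presheaf.stalk x') RX)
      (_ : IsSepClosed (ResidueField RX)),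
      Function.Bijective ((EtCoh.stalk (Hens2.geomPt X' x' RX)).map
        (EtBC.bcQ (𝟙 X') (𝟙 X') h h w q ((EtCoh.pull p).obj F))) := by
  obtain ⟨RX, _, _, _, _, _, _, _, _, _, hRX', hβ, hp, hf'⟩ := exists_strict_lift f f' p x' hx' cX
  haveI : IsSepClosed (ResidueField RX) := BcQCalc.isSepClosed_residueField_of_strict (X'.presheaf.stalk x') RX
  haveI : HenselianLocalRing RX := _root_.Hensel.IsStrictHenselization.henselian (R := X'.presheaf.stalk x')
  refine ⟨RX, inferInstance, inferInstance, inferInstance, inferInstance, hRX', inferInstance, ?_⟩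
  obtain ⟨D⟩ := RpushStalk.exists_model X' x' RX
  let hX := Hens2.specOf X' x' RX
  refine (BcQCalc.bijective_stalk_bcQ_iff (𝟙 X') (𝟙 X') h h w D D (𝟙 _) (by rw [Category.id_comp]; exact (Category.comp_id _).symm)
    (𝟙 _) (by rw [Category.id_comp, Category.comp_id]) ((EtCoh.pull p).obj F) q).2 ?_
  letI : Algebra RS Ω := τ.toAlgebra
  let m := BcQCalc.fibMap (𝟙 X') (𝟙 X') h h w (hS := hX) (hX := hX) (𝟙 _)
    (by rw [Category.id_comp]; exact (Category.comp_id _).symm)
  let a : pullback hX (𝟙 X') ⟶ X := pullback.snd hX (𝟙 X') ≫ p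
  refine (BcQCalc.bijective_Hpull_iso m (((EtCore.pullComp (pullback.snd hX (𝟙 X')) p).symm.app F)) q).2 ?_
  have cQ : IsPullback (pullback.fst hX h) (pullback.snd hX h ≫ ft)
      (Spec.map (CommRingCat.ofHom (algebraMap RS RX))) (Spec.map (CommRingCat.ofHom τ)) := by
    have := (IsPullback.of_hasPullback hX h).paste_vert ct
    rwa [hf'] at this
  let θQ : pullback hX h ⟶ Spec (CommRingCat.of (RX ⊗[RS] Ω)) :=
    cQ.isoPullback.hom ≫ (pullbackSpecIso RS RX Ω).hom
  have hθ : θQ ≫ Spec.map (CommRingCat.ofHom (algebraMap RX (RX ⊗[RS] Ω))) = pullback.fst hX h := by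
    show (cQ.isoPullback.hom ≫ (pullbackSpecIso RS RX Ω).hom) ≫ _ = _
    rw [Category.assoc]
    refine Eq.trans ?_ cQ.isoPullback_hom_fst
    exact congrArg (cQ.isoPullback.hom ≫ ·) (pullbackSpecIso_hom_fst RS RX Ω)
  have hP : pullback.fst hX (𝟙 X') ≫ Hens2.specOf X (p x') RX = a := by
    rw [← hp, ← Category.assoc, pullback.condition, Category.comp_id]
  have hm : m ≫ pullback.fst hX (𝟙 X') = pullback.fst hX h := by
    rw [BcQCalc.fibMap_fst, Category.comp_id]
  have key := (BcQCalc.bijective_HpullVia_iff m a (m ≫ a) rfl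
    (Spec.map (CommRingCat.ofHom (algebraMap RX (RX ⊗[RS] Ω)))) (Hens2.specOf X (p x') RX)
    (pullback.fst hX (𝟙 X')) θQ hP (hθ.trans hm.symm) F q).2 (hla (p x') RS RX hβ Ω q)
  exact (Function.Bijective.of_comp_iff' (EtAcycLib.bijective_comp_mk₀
    (((EtCore.pullComp m a).symm ≪≫ EtCore.pullCongr rfl).app F)) _).1 key

/-- Local acyclicity: the restriction to the closed fibre of the unit is an isomorphism and the higher direct images vanish. -/
theorem isIso_pull_bcQ {X S : Scheme.{u}} (f : X ⟶ S) (F : EtCoh.Ab X) (hla : SGA4h.IsLARel f F) (s : S)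
    {RS : Type u} [CommRing RS] [IsLocalRing RS] [Algebra (S.presheaf.stalk s) RS]
    [IsLocalHom (algebraMap (S.presheaf.stalk s) RS)] [_root_.Hensel.IsStrictHenselization (S.presheaf.stalk s) RS]
    {X' : Scheme.{u}} (f' : X' ⟶ Spec (CommRingCat.of RS)) (p : X' ⟶ X) (cX : IsPullback p f' f (Hens2.specOf S s RS))
    (Ω : Type u) [Field Ω] [IsSepClosed Ω] (τ : RS →+* Ω)
    {Xt : Scheme.{u}} (h : Xt ⟶ X') (ft : Xt ⟶ Spec (CommRingCat.of Ω))
    (ct : IsPullback h ft f' (Spec.map (CommRingCat.ofHom τ)))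
    {Xs : Scheme.{u}} (i : Xs ⟶ X') (fs : Xs ⟶ Spec (CommRingCat.of (ResidueField RS)))
    (cs : IsPullback i fs f' (Spec.map (CommRingCat.ofHom (residue RS)))) (w : h ≫ 𝟙 X' = h ≫ 𝟙 X') (q : ℕ) :
    IsIso ((EtCoh.pull i).map (EtBC.bcQ (𝟙 X') (𝟙 X') h h w q ((EtCoh.pull p).obj F))) := by
  haveI : QuasiCompact h := MorphismProperty.of_isPullback ct.flip (inferInstanceAs (QuasiCompact (Spec.map (CommRingCat.ofHom τ))))
  haveI : QuasiSeparated h := MorphismProperty.of_isPullback ct.flip (inferInstanceAs (QuasiSeparated (Spec.map (CommRingCat.ofHom τ))))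
  refine isIso_pull_map i _ fun Ω₁ _ _ ξ => ?_
  let x' : X' := (ξ ≫ i) (closedPoint Ω₁)
  have hx' : f' x' = closedPoint RS := by
    show f' ((ξ ≫ i) (closedPoint Ω₁)) = _
    rw [← Scheme.Hom.comp_apply, Category.assoc, cs.w, Scheme.Hom.comp_apply, Scheme.Hom.comp_apply]
    have h1 : fs (ξ (closedPoint Ω₁)) = closedPoint (ResidueField RS) := Subsingleton.elim _ _
    rw [h1]
    exact IsLocalRing.comap_closedPoint (residue RS)
  have hs : f (p x') = s := by
    rw [← Scheme.Hom.comp_apply, cX.w, Scheme.Hom.comp_apply, hx', specOf_closedPoint]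
  subst hs
  obtain ⟨RX, _, _, _, _, _, _, hb⟩ := bijective_stalk f F hla f' p x' hx' cX Ω τ h ft ct w q
  obtain ⟨l, hl⟩ := BcQCalc.exists_fac_geomPt (ξ ≫ i) RX
  haveI : IsIso ((EtCoh.stalk (Hens2.geomPt X' x' RX)).map
      (EtBC.bcQ (𝟙 X') (𝟙 X') h h w q ((EtCoh.pull p).obj F))) := (ConcreteCategory.isIso_iff_bijective _).2 hb
  have h2 := (NatIso.isIso_map_iff (EtFound.stalkExtIso AddCommGrpCat.{u + 1} (Hens2.geomPt X' x' RX) l)
    (EtBC.bcQ (𝟙 X') (𝟙 X') h h w q ((EtCoh.pull p).obj F))).1 this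
  exact hl ▸ h2

end Groth.Agent.LocAcycLib
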