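import Groth.Agent.Hensel.TensorStrict
import Groth.Agent.BcQCalc.Exist
import Groth.Agent.S9467
import Mathlib.AlgebraicGeometry.Pullbacks

/-!
# Strict localizations of a base change along quasi-finite or integral morphisms
-/

set_option autoImplicit false
set_option linter.unusedSectionVars false
set_option linter.style.haveILetI false
set_option backward.isDefEq.respectTransparency false
set_option backward.isDefEq.respectTransparency.types false

universe u

open CategoryTheory CategoryTheory.Limits AlgebraicGeometry IsLocalRing TensorProduct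

noncomputable section

namespace Groth.Agent.LocAcycLib

section Residue

variable {O : Type u} [CommRing O] [IsLocalRing O] {R : Type u} [CommRing R] [IsLocalRing R] [Algebra O R]
  [IsLocalHom (algebraMap O R)] [_root_.Hensel.IsStrictHenselization O R]

/-- Strict henselizations transport along isomorphisms of the base. -/
theorem isStrictHenselization_comp_equiv {L : Type u} [CommRing L] [IsLocalRing L] (e : L ≃+* O) [Algebra L R]
    (he : algebraMap L R = (algebraMap O R).comp e.toRingHom) [IsLocalHom (algebraMap L R)] :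
    _root_.Hensel.IsStrictHenselization L R := by
  haveI : IsLocalHom e.toRingHom := ⟨fun a ha => (isUnit_map_iff e a).1 ha⟩
  have hres : ResidueField.map (algebraMap L R) =
      (ResidueField.map (algebraMap O R)).comp (ResidueField.map e.toRingHom) := by
    refine RingHom.ext fun a => ?_
    obtain ⟨a, rfl⟩ := residue_surjective a
    rw [RingHom.comp_apply, ResidueField.map_residue, ResidueField.map_residue, ResidueField.map_residue, he]
    rfl
  refine ⟨_root_.Hensel.IsStrictHenselization.henselian (R := O), ?_, fun T _ _ f _ τ hτ => ?_⟩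
  · have hO := _root_.Hensel.IsStrictHenselization.isSepClosure (R := O) (S := R)
    refine ⟨hO.sep_closed, ⟨fun z => ?_⟩⟩
    have h1 : IsSeparable (ResidueField O) z := hO.separable.isSeparable' z
    have hsurj : Function.Surjective (ResidueField.map e.toRingHom) := fun a => by
      obtain ⟨a, rfl⟩ := residue_surjective a
      exact ⟨residue L (e.symm a), by rw [ResidueField.map_residue]; exact congrArg _ (e.apply_symm_apply a)⟩
    let ε : ResidueField L ≃+* ResidueField O :=
      RingEquiv.ofBijective _ ⟨(ResidueField.map e.toRingHom).injective, hsurj⟩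
    have hp : ((minpoly (ResidueField O) z).map ε.symm.toRingHom).Separable := (Polynomial.Separable.map (show (minpoly (ResidueField O) z).Separable from h1))
    refine Polynomial.Separable.of_dvd hp (minpoly.dvd _ _ ?_)
    rw [Polynomial.aeval_def, Polynomial.eval₂_map]
    have hc : (algebraMap (ResidueField L) (ResidueField R)).comp ε.symm.toRingHom =
        algebraMap (ResidueField O) (ResidueField R) := by
      refine RingHom.ext fun a => ?_
      show ResidueField.map (algebraMap L R) (ε.symm a) = ResidueField.map (algebraMap O R) a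
      rw [hres, RingHom.comp_apply]
      exact congrArg _ (ε.apply_symm_apply a)
    rw [hc, ← Polynomial.aeval_def]
    exact minpoly.aeval _ _
  · haveI : IsLocalHom e.symm.toRingHom := ⟨fun a ha => (isUnit_map_iff e.symm a).1 ha⟩
    let f' : O →+* T := f.comp e.symm.toRingHom
    haveI : IsLocalHom f' := RingHom.isLocalHom_comp _ _
    have hτ' : τ.comp (ResidueField.map (algebraMap O R)) = ResidueField.map f' := by
      refine RingHom.ext fun a => ?_
      obtain ⟨a, rfl⟩ := residue_surjective a
      obtain ⟨a, rfl⟩ := e.surjective a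
      have := RingHom.congr_fun hτ (residue L a)
      rw [RingHom.comp_apply, ResidueField.map_residue, ResidueField.map_residue, he] at this
      rw [RingHom.comp_apply, ResidueField.map_residue, ResidueField.map_residue]
      refine this.trans (congrArg (residue T) ?_)
      exact (congrArg f (e.symm_apply_apply a)).symm
    obtain ⟨g, ⟨hg1, hg2⟩, hu⟩ := _root_.Hensel.IsStrictHenselization.universal (R := O) (S := R) T f' τ hτ'
    refine ⟨g, ⟨?_, hg2⟩, fun g' hg' => hu g' ⟨?_, hg'.2⟩⟩
    · rw [he, ← RingHom.comp_assoc, hg1]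
      exact RingHom.ext fun a => congrArg f (e.symm_apply_apply a)
    · refine RingHom.ext fun a => ?_
      obtain ⟨a, rfl⟩ := e.surjective a
      have := RingHom.congr_fun hg'.1 a
      rw [he] at this
      exact this.trans (congrArg f (e.symm_apply_apply a)).symm

theorem eq_of_residue {T : Type u} [CommRing T] [HenselianLocalRing T] {g g' : R →+* T} [IsLocalHom g] [IsLocalHom g']
    (h : g.comp (algebraMap O R) = g'.comp (algebraMap O R))
    (hr : ∀ x, residue T (g x) = residue T (g' x)) : g = g' := by
  let f := g.comp (algebraMap O R)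
  haveI : IsLocalHom f := RingHom.isLocalHom_comp _ _
  have hτ : (ResidueField.map g).comp (ResidueField.map (algebraMap O R)) = ResidueField.map f :=
    RingHom.ext fun a => by
      obtain ⟨a, rfl⟩ := residue_surjective a
      simp [f]
  obtain ⟨k, -, hu⟩ := _root_.Hensel.IsStrictHenselization.universal (R := O) (S := R) T f (ResidueField.map g) hτ
  exact (hu g ⟨rfl, fun x => (ResidueField.map_residue g x).symm⟩).trans
    (hu g' ⟨h.symm, fun x => (hr x).symm.trans (ResidueField.map_residue g x).symm⟩).symm

/-- Maps into a bigger strict henselization that agree on the base lift. -/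
theorem exists_lift {O₁ R₁ : Type u} [CommRing O₁] [IsLocalRing O₁] [CommRing R₁] [IsLocalRing R₁] [Algebra O₁ R₁]
    [IsLocalHom (algebraMap O₁ R₁)] [_root_.Hensel.IsStrictHenselization O₁ R₁]
    {T : Type u} [CommRing T] [HenselianLocalRing T]
    (φ : O →+* O₁) [IsLocalHom φ] (μ : R₁ →+* T) [IsLocalHom μ] (ν : R →+* T) [IsLocalHom ν]
    (h : ν.comp (algebraMap O R) = (μ.comp (algebraMap O₁ R₁)).comp φ) :
    ∃ β : R →+* R₁, IsLocalHom β ∧ β.comp (algebraMap O R) = (algebraMap O₁ R₁).comp φ ∧ μ.comp β = ν := by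
  haveI hsep := _root_.Hensel.IsStrictHenselization.isSepClosure (R := O) (S := R)
  haveI : IsSepClosed (ResidueField R₁) := BcQCalc.isSepClosed_residueField_of_strict O₁ R₁
  let f : O →+* R₁ := (algebraMap O₁ R₁).comp φ
  haveI : IsLocalHom f := RingHom.isLocalHom_comp _ _
  let m := ResidueField.map μ
  let σ := ResidueField.map ν
  have hσ : σ.comp (ResidueField.map (algebraMap O R)) = m.comp (ResidueField.map f) := RingHom.ext fun a => by
    obtain ⟨a, rfl⟩ := residue_surjective a
    simp only [σ, m, RingHom.comp_apply, ResidueField.map_residue]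
    exact congrArg _ (RingHom.congr_fun h a)
  have hmem : ∀ a, σ a ∈ m.range := fun a => by
    have hP : IsSeparable (ResidueField O) a := hsep.separable.isSeparable' a
    let P := (minpoly (ResidueField O) a).map (ResidueField.map f)
    have hPs : P.Separable := Polynomial.Separable.map (show (minpoly (ResidueField O) a).Separable from hP)
    have hP0 : P.Monic := (minpoly.monic hP.isIntegral).map _
    have hsplit : P.Splits := IsSepClosed.splits_of_separable P hPs
    have hroot : σ a ∈ (P.map m).roots := by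
      rw [Polynomial.mem_roots (hP0.map m).ne_zero, Polynomial.IsRoot, Polynomial.eval_map, Polynomial.eval₂_map, ← hσ,
        ← Polynomial.hom_eval₂]
      exact (congrArg σ (minpoly.aeval (ResidueField O) a)).trans (map_zero σ)
    rw [hsplit.roots_map m, Multiset.mem_map] at hroot
    obtain ⟨r, -, hr⟩ := hroot
    exact ⟨r, hr⟩
  let τ : ResidueField R →+* ResidueField R₁ :=
    (RingEquiv.ofBijective m.rangeRestrict ⟨fun a b hab => m.injective (congrArg Subtype.val hab),
      m.rangeRestrict_surjective⟩).symm.toRingHom.comp (σ.codRestrict m.range hmem)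
  have hτm : ∀ a, m (τ a) = σ a := fun a =>
    congrArg Subtype.val ((RingEquiv.ofBijective m.rangeRestrict ⟨fun a b hab => m.injective (congrArg Subtype.val hab),
      m.rangeRestrict_surjective⟩).apply_symm_apply (σ.codRestrict m.range hmem a))
  have hτ : τ.comp (ResidueField.map (algebraMap O R)) = ResidueField.map f := RingHom.ext fun a =>
    m.injective ((hτm _).trans (RingHom.congr_fun hσ a))
  haveI : HenselianLocalRing R₁ := _root_.Hensel.IsStrictHenselization.henselian (R := O₁)
  obtain ⟨β, ⟨hβ1, hβ2⟩, -⟩ := _root_.Hensel.IsStrictHenselization.universal (R := O) (S := R) R₁ f τ hτ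
  haveI hβl : IsLocalHom β := ⟨fun a ha => by
    by_contra hn
    have h0 : residue R a = 0 := (residue_eq_zero_iff a).2 hn
    have h1 : residue R₁ (β a) = 0 := by rw [hβ2, h0, map_zero]
    exact (residue_eq_zero_iff (β a)).1 h1 ha⟩
  haveI : IsLocalHom (μ.comp β) := RingHom.isLocalHom_comp _ _
  refine ⟨β, hβl, hβ1, eq_of_residue (O := O) ?_ fun x => ?_⟩
  · rw [RingHom.comp_assoc, hβ1, h]
    rfl
  · have := hτm (residue R x)
    rw [← hβ2, ResidueField.map_residue, ResidueField.map_residue] at this
    exact this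

end Residue

theorem pt_congr {X Y : Scheme.{u}} {a b : X ⟶ Y} (h : a = b) (x : X) : a x = b x := congrArg (fun r : X ⟶ Y => r x) h

section Chart

variable {A : Type u} [CommRing A] {X : Scheme.{u}} (j : Spec (CommRingCat.of A) ⟶ X) [IsOpenImmersion j]
  (p : Spec (CommRingCat.of A))

/-- The stalk at a point of an affine chart as a localization. -/
def chartIso : CommRingCat.of (Localization.AtPrime p.asIdeal) ≅ X.presheaf.stalk (j p) :=
  (Spec.stalkIso (CommRingCat.of A) p).symm ≪≫ (asIso (j.stalkMap p)).symm

/-- The coordinate ring of a chart maps to the stalk. -/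
def chartMap : CommRingCat.of A ⟶ X.presheaf.stalk (j p) :=
  CommRingCat.ofHom (algebraMap A (Localization.AtPrime p.asIdeal)) ≫ (chartIso j p).hom

@[reassoc]
theorem SpecMap_chartMap : Spec.map (chartMap j p) ≫ j = X.fromSpecStalk (j p) := by
  have h1 : (Spec (CommRingCat.of A)).fromSpecStalk p =
      Spec.map (CommRingCat.ofHom (algebraMap A (Localization.AtPrime p.asIdeal)) ≫
        (Spec.stalkIso (CommRingCat.of A) p).inv) := by
    refine Eq.trans ?_ (congrArg Spec.map (Spec.algebraMap_stalkIso_inv (R := CommRingCat.of A) (x := p)).symm)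
    exact Spec.fromSpecStalk_eq (CommRingCat.of A) p
  have h2 := Scheme.SpecMap_stalkMap_fromSpecStalk j (x := p)
  rw [chartMap, chartIso, Iso.trans_hom, Iso.symm_hom, Iso.symm_hom, asIso_inv, ← Category.assoc, Spec.map_comp,
    ← h1, Category.assoc, ← h2, ← Category.assoc, ← Spec.map_comp, IsIso.hom_inv_id, Spec.map_id, Category.id_comp]

theorem stalkMap_chartMap {B : Type u} [CommRing B] {Y : Scheme.{u}} (f : X ⟶ Y)
    (k : Spec (CommRingCat.of B) ⟶ Y) [IsOpenImmersion k] (r : B →+* A)
    (w : j ≫ f = Spec.map (CommRingCat.ofHom r) ≫ k) (q : Spec (CommRingCat.of B)) (hq : k q = f (j p)) :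
    chartMap k q ≫ (Y.presheaf.stalkCongr (.of_eq hq)).hom ≫ f.stalkMap (j p) = CommRingCat.ofHom r ≫ chartMap j p := by
  apply Spec.map_injective
  rw [← cancel_mono k, Spec.map_comp, Spec.map_comp, Spec.map_comp, Category.assoc, Category.assoc,
    SpecMap_chartMap, Category.assoc, ← w, SpecMap_chartMap_assoc, TopCat.Presheaf.stalkCongr_hom,
    Scheme.SpecMap_stalkSpecializes_fromSpecStalk, Scheme.SpecMap_stalkMap_fromSpecStalk]

end Chart

/-- `vcRing` after base change. -/
theorem nonempty_tensor_equiv (RS RX RS' RX' Ω : Type u) [CommRing RS] [CommRing RX] [CommRing RS'] [CommRing RX']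
    [CommRing Ω] [Algebra RS RX] [Algebra RS RS'] [Algebra RS' RX'] [Algebra RX RX'] [Algebra RS RX']
    [IsScalarTower RS RS' RX'] [IsScalarTower RS RX RX'] [Algebra RS' Ω] [Algebra RS Ω] [IsScalarTower RS RS' Ω]
    (h : Function.Bijective (Algebra.TensorProduct.lift (IsScalarTower.toAlgHom RS RS' RX')
      (IsScalarTower.toAlgHom RS RX RX') (fun _ _ => Commute.all _ _))) :
    Nonempty (RX ⊗[RS] Ω ≃+* RX' ⊗[RS'] Ω) := by
  let φ : RS' ⊗[RS] RX →ₐ[RS'] RX' :=
    Algebra.TensorProduct.lift (Algebra.ofId RS' RX') (IsScalarTower.toAlgHom RS RX RX') (fun _ _ => Commute.all _ _)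
  have hb : Function.Bijective φ := by
    have he : ∀ z, φ z = Algebra.TensorProduct.lift (IsScalarTower.toAlgHom RS RS' RX')
        (IsScalarTower.toAlgHom RS RX RX') (fun _ _ => Commute.all _ _) z := fun z => by
      induction z using TensorProduct.induction_on with
      | zero => simp
      | tmul a b => simp [φ, Algebra.ofId_apply]
      | add a b ha hb => simp [ha, hb]
    rwa [show (⇑φ : RS' ⊗[RS] RX → RX') = _ from funext he]
  let e := AlgEquiv.ofBijective φ hb
  let e1 : Ω ⊗[RS'] (RS' ⊗[RS] RX) ≃ₐ[Ω] Ω ⊗[RS] RX := Algebra.TensorProduct.cancelBaseChange RS RS' Ω Ω RX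
  let e2 : Ω ⊗[RS'] (RS' ⊗[RS] RX) ≃ₐ[Ω] Ω ⊗[RS'] RX' :=
    Algebra.TensorProduct.congr (AlgEquiv.refl (R := Ω) (A₁ := Ω)) e
  exact ⟨(Algebra.TensorProduct.comm RS RX Ω).toRingEquiv.trans (e1.symm.toRingEquiv.trans
    (e2.toRingEquiv.trans (Algebra.TensorProduct.comm RS' Ω RX').toRingEquiv))⟩

/-- Vanishing cycle rings of a base change along a quasi-finite or integral affine morphism. -/
theorem exists_tensor_equiv_of_charts {X S S' : Scheme.{u}} (f : X ⟶ S) (g : S' ⟶ S)
    {A B C : Type u} [CommRing A] [CommRing B] [CommRing C] [Algebra A B] [Algebra A C]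
    (hB : ∀ s : Finset B, ∃ B₀ : Subalgebra A B, (↑s : Set B) ⊆ ↑B₀ ∧
      Algebra.FiniteType A ↥B₀ ∧ Algebra.QuasiFinite A ↥B₀)
    (kA : Spec (CommRingCat.of A) ⟶ S) [IsOpenImmersion kA]
    (kB : Spec (CommRingCat.of B) ⟶ S') [IsOpenImmersion kB]
    (kC : Spec (CommRingCat.of C) ⟶ X) [IsOpenImmersion kC]
    (kD : Spec (CommRingCat.of (B ⊗[A] C)) ⟶ pullback f g) [IsOpenImmersion kD]
    (wB : kB ≫ g = Spec.map (CommRingCat.ofHom (algebraMap A B)) ≫ kA)
    (wC : kC ≫ f = Spec.map (CommRingCat.ofHom (algebraMap A C)) ≫ kA)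
    (wDB : kD ≫ pullback.snd f g = Spec.map (CommRingCat.ofHom (algebraMap B (B ⊗[A] C))) ≫ kB)
    (wDC : kD ≫ pullback.fst f g =
      Spec.map (CommRingCat.ofHom (Algebra.TensorProduct.includeRight : C →ₐ[A] B ⊗[A] C).toRingHom) ≫ kC)
    (P : Spec (CommRingCat.of (B ⊗[A] C)))
    (RS' RX' : Type u) [CommRing RS'] [CommRing RX'] [IsLocalRing RS'] [IsLocalRing RX']
    [Algebra (S'.presheaf.stalk (pullback.snd f g (kD P))) RS']
    [IsLocalHom (algebraMap (S'.presheaf.stalk (pullback.snd f g (kD P))) RS')]
    [_root_.Hensel.IsStrictHenselization (S'.presheaf.stalk (pullback.snd f g (kD P))) RS']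
    [Algebra ((pullback f g).presheaf.stalk (kD P)) RX'] [IsLocalHom (algebraMap ((pullback f g).presheaf.stalk (kD P)) RX')]
    [_root_.Hensel.IsStrictHenselization ((pullback f g).presheaf.stalk (kD P)) RX']
    [Algebra RS' RX'] [IsLocalHom (algebraMap RS' RX')]
    (hc : (algebraMap RS' RX').comp (algebraMap (S'.presheaf.stalk (pullback.snd f g (kD P))) RS') =
      (algebraMap ((pullback f g).presheaf.stalk (kD P)) RX').comp ((pullback.snd f g).stalkMap (kD P)).hom) :
    ∃ (RS RX : Type u) (_ : CommRing RS) (_ : CommRing RX) (_ : IsLocalRing RS) (_ : IsLocalRing RX)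
      (_ : Algebra (S.presheaf.stalk (f (pullback.fst f g (kD P)))) RS)
      (_ : IsLocalHom (algebraMap (S.presheaf.stalk (f (pullback.fst f g (kD P)))) RS))
      (_ : _root_.Hensel.IsStrictHenselization (S.presheaf.stalk (f (pullback.fst f g (kD P)))) RS)
      (_ : Algebra (X.presheaf.stalk (pullback.fst f g (kD P))) RX)
      (_ : IsLocalHom (algebraMap (X.presheaf.stalk (pullback.fst f g (kD P))) RX))
      (_ : _root_.Hensel.IsStrictHenselization (X.presheaf.stalk (pullback.fst f g (kD P))) RX)
      (_ : Algebra RS RX) (_ : IsLocalHom (algebraMap RS RX)) (α : RS →+* RS'),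
      (algebraMap RS RX).comp (algebraMap (S.presheaf.stalk (f (pullback.fst f g (kD P)))) RS) =
        (algebraMap (X.presheaf.stalk (pullback.fst f g (kD P))) RX).comp
          (f.stalkMap (pullback.fst f g (kD P))).hom ∧
      ∀ (Ω : Type u) [Field Ω] [Algebra RS' Ω] [Algebra RS Ω],
        algebraMap RS Ω = (algebraMap RS' Ω).comp α → Nonempty (RX ⊗[RS] Ω ≃+* RX' ⊗[RS'] Ω) := by
  let D := B ⊗[A] C
  let x' := kD P
  let pD := P.asIdeal
  let PB : Spec (CommRingCat.of B) := (Spec.map (CommRingCat.ofHom (algebraMap B D))) P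
  let PC : Spec (CommRingCat.of C) :=
    (Spec.map (CommRingCat.ofHom (Algebra.TensorProduct.includeRight : C →ₐ[A] D).toRingHom)) P
  let PA : Spec (CommRingCat.of A) := (Spec.map (CommRingCat.ofHom (algebraMap A C))) PC
  have eB : kB PB = pullback.snd f g x' := (pt_congr wDB P).symm
  have eC : kC PC = pullback.fst f g x' := (pt_congr wDC P).symm
  have eA : kA PA = f (pullback.fst f g x') := (pt_congr wC PC).symm.trans (congrArg f eC)
  have eg : f (pullback.fst f g x') = g (pullback.snd f g x') := pt_congr pullback.condition x'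
  -- the stalk maps
  let OA := S.presheaf.stalk (f (pullback.fst f g x'))
  let OB := S'.presheaf.stalk (pullback.snd f g x')
  let OC := X.presheaf.stalk (pullback.fst f g x')
  let φf : OA →+* OC := (f.stalkMap (pullback.fst f g x')).hom
  let φg : OA →+* OB :=
    ((S.presheaf.stalkCongr (.of_eq eg)).hom ≫ g.stalkMap (pullback.snd f g x')).hom
  let φ1 : OC →+* (pullback f g).presheaf.stalk x' := ((pullback.fst f g).stalkMap x').hom
  let φ2 : OB →+* (pullback f g).presheaf.stalk x' := ((pullback.snd f g).stalkMap x').hom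
  have hsq : φ1.comp φf = φ2.comp φg := by
    have : f.stalkMap (pullback.fst f g x') ≫ (pullback.fst f g).stalkMap x' =
        ((S.presheaf.stalkCongr (.of_eq eg)).hom ≫ g.stalkMap (pullback.snd f g x')) ≫
          (pullback.snd f g).stalkMap x' := by
      apply Spec.map_injective
      rw [← cancel_mono (S.fromSpecStalk _), TopCat.Presheaf.stalkCongr_hom]
      simp only [Spec.map_comp, Category.assoc, Scheme.SpecMap_stalkMap_fromSpecStalk,
        Scheme.SpecMap_stalkMap_fromSpecStalk_assoc, Scheme.SpecMap_stalkSpecializes_fromSpecStalk,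
        pullback.condition]
    exact congrArg CommRingCat.Hom.hom this
  haveI : IsLocalHom φg := by
    dsimp only [φg]; rw [CommRingCat.hom_comp]; exact RingHom.isLocalHom_comp _ _
  obtain ⟨RS, _, _, _, _, hRS⟩ := BcQCalc.exists_strictHens OA
  obtain ⟨RX, _, _, _, _, hRX⟩ := BcQCalc.exists_strictHens OC
  obtain ⟨α, hαl, hα⟩ := BcQCalc.exists_strictMap (R := RS) (R' := RS') φg
  obtain ⟨μ, hμl, hμ⟩ := BcQCalc.exists_strictMap (R := RX) (R' := RX') φ1
  haveI := hαl
  haveI := hμl
  haveI : HenselianLocalRing RX' :=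
    _root_.Hensel.IsStrictHenselization.henselian (R := (pullback f g).presheaf.stalk x')
  haveI : IsLocalHom ((algebraMap RS' RX').comp α) := RingHom.isLocalHom_comp _ _
  obtain ⟨β, hβl, hβ, hμβ⟩ := exists_lift (O := OA) (R := RS) (O₁ := OC) (R₁ := RX) φf μ
    ((algebraMap RS' RX').comp α) (by
      rw [RingHom.comp_assoc, hα, ← RingHom.comp_assoc, hc, RingHom.comp_assoc, ← hsq, ← RingHom.comp_assoc, hμ])
  letI : Algebra RS RX := β.toAlgebra
  haveI : IsLocalHom (algebraMap RS RX) := hβl
  refine ⟨RS, RX, inferInstance, inferInstance, inferInstance, inferInstance, inferInstance, inferInstance, hRS,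
    inferInstance, inferInstance, hRX, β.toAlgebra, hβl, α, hβ, fun Ω _ _ _ hΩ => ?_⟩
  -- chart maps
  let cA : A →+* OA := (chartMap kA PA ≫ (S.presheaf.stalkCongr (.of_eq eA)).hom).hom
  let cB : B →+* OB := (chartMap kB PB ≫ (S'.presheaf.stalkCongr (.of_eq eB)).hom).hom
  let cC : C →+* OC := (chartMap kC PC ≫ (X.presheaf.stalkCongr (.of_eq eC)).hom).hom
  let cD : D →+* (pullback f g).presheaf.stalk x' := (chartMap kD P).hom
  let lA : Localization.AtPrime PA.asIdeal ≃+* OA :=
    (chartIso kA PA ≪≫ S.presheaf.stalkCongr (.of_eq eA)).commRingCatIsoToRingEquiv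
  let lB : Localization.AtPrime PB.asIdeal ≃+* OB :=
    (chartIso kB PB ≪≫ S'.presheaf.stalkCongr (.of_eq eB)).commRingCatIsoToRingEquiv
  let lC : Localization.AtPrime PC.asIdeal ≃+* OC :=
    (chartIso kC PC ≪≫ X.presheaf.stalkCongr (.of_eq eC)).commRingCatIsoToRingEquiv
  let lD : Localization.AtPrime pD ≃+* (pullback f g).presheaf.stalk x' :=
    (chartIso kD P).commRingCatIsoToRingEquiv
  have cDB : φ2.comp cB = cD.comp (algebraMap B D) := by
    have := stalkMap_chartMap kD P (pullback.snd f g) kB _ wDB PB eB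
    rw [← Category.assoc] at this
    exact congrArg CommRingCat.Hom.hom this
  have cDC : φ1.comp cC = cD.comp (Algebra.TensorProduct.includeRight : C →ₐ[A] D).toRingHom := by
    have := stalkMap_chartMap kD P (pullback.fst f g) kC _ wDC PC eC
    rw [← Category.assoc] at this
    exact congrArg CommRingCat.Hom.hom this
  have cCA : φf.comp cA = cC.comp (algebraMap A C) := by
    have : (chartMap kA PA ≫ (S.presheaf.stalkCongr (.of_eq eA)).hom) ≫ f.stalkMap _ =
        CommRingCat.ofHom (algebraMap A C) ≫ chartMap kC PC ≫ (X.presheaf.stalkCongr (.of_eq eC)).hom := by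
      apply Spec.map_injective
      rw [← cancel_mono kA]
      simp only [Spec.map_comp, Category.assoc, SpecMap_chartMap, ← wC, TopCat.Presheaf.stalkCongr_hom,
        SpecMap_chartMap_assoc, Scheme.SpecMap_stalkSpecializes_fromSpecStalk,
        Scheme.SpecMap_stalkSpecializes_fromSpecStalk_assoc, Scheme.SpecMap_stalkMap_fromSpecStalk]
    exact congrArg CommRingCat.Hom.hom this
  have cBA : φg.comp cA = cB.comp (algebraMap A B) := by
    have : (chartMap kA PA ≫ (S.presheaf.stalkCongr (.of_eq eA)).hom) ≫
        (S.presheaf.stalkCongr (.of_eq eg)).hom ≫ g.stalkMap _ =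
        CommRingCat.ofHom (algebraMap A B) ≫ chartMap kB PB ≫ (S'.presheaf.stalkCongr (.of_eq eB)).hom := by
      apply Spec.map_injective
      rw [← cancel_mono kA]
      simp only [Spec.map_comp, Category.assoc, SpecMap_chartMap, ← wB, TopCat.Presheaf.stalkCongr_hom,
        SpecMap_chartMap_assoc, Scheme.SpecMap_stalkSpecializes_fromSpecStalk,
        Scheme.SpecMap_stalkSpecializes_fromSpecStalk_assoc, Scheme.SpecMap_stalkMap_fromSpecStalk]
    exact congrArg CommRingCat.Hom.hom this
  haveI : PB.asIdeal.LiesOver PA.asIdeal := ⟨by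
    show ((P.asIdeal.comap (Algebra.TensorProduct.includeRight : C →ₐ[A] D).toRingHom).comap (algebraMap A C)) =
      (P.asIdeal.comap (algebraMap B D)).comap (algebraMap A B)
    rw [Ideal.comap_comap, Ideal.comap_comap]
    congr 1
    refine RingHom.ext fun a => ?_
    simp [D, Algebra.TensorProduct.algebraMap_apply, Algebra.algebraMap_eq_smul_one, TensorProduct.smul_tmul]⟩
  haveI : PC.asIdeal.LiesOver PA.asIdeal := ⟨rfl⟩
  haveI : pD.LiesOver PB.asIdeal := ⟨rfl⟩
  letI : Algebra (Localization.AtPrime PA.asIdeal) RS := ((algebraMap OA RS).comp lA.toRingHom).toAlgebra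
  letI : Algebra (Localization.AtPrime PB.asIdeal) RS' := ((algebraMap OB RS').comp lB.toRingHom).toAlgebra
  letI : Algebra (Localization.AtPrime PC.asIdeal) RX := ((algebraMap OC RX).comp lC.toRingHom).toAlgebra
  letI : Algebra (Localization.AtPrime pD) RX' :=
    ((algebraMap ((pullback f g).presheaf.stalk x') RX').comp lD.toRingHom).toAlgebra
  haveI : IsLocalHom (algebraMap (Localization.AtPrime PA.asIdeal) RS) :=
    haveI : IsLocalHom lA.toRingHom := ⟨fun a ha => (isUnit_map_iff lA a).1 ha⟩
    RingHom.isLocalHom_comp _ _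
  haveI : IsLocalHom (algebraMap (Localization.AtPrime PB.asIdeal) RS') :=
    haveI : IsLocalHom lB.toRingHom := ⟨fun a ha => (isUnit_map_iff lB a).1 ha⟩
    RingHom.isLocalHom_comp _ _
  haveI : IsLocalHom (algebraMap (Localization.AtPrime PC.asIdeal) RX) :=
    haveI : IsLocalHom lC.toRingHom := ⟨fun a ha => (isUnit_map_iff lC a).1 ha⟩
    RingHom.isLocalHom_comp _ _
  haveI : IsLocalHom (algebraMap (Localization.AtPrime pD) RX') :=
    haveI : IsLocalHom lD.toRingHom := ⟨fun a ha => (isUnit_map_iff lD a).1 ha⟩
    RingHom.isLocalHom_comp _ _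
  haveI := isStrictHenselization_comp_equiv (R := RS) lA rfl
  haveI := isStrictHenselization_comp_equiv (R := RS') lB rfl
  haveI := isStrictHenselization_comp_equiv (R := RX) lC rfl
  haveI := isStrictHenselization_comp_equiv (R := RX') lD rfl
  letI : Algebra A RS := ((algebraMap OA RS).comp cA).toAlgebra
  letI : Algebra B RS' := ((algebraMap OB RS').comp cB).toAlgebra
  letI : Algebra C RX := ((algebraMap OC RX).comp cC).toAlgebra
  letI : Algebra D RX' := ((algebraMap ((pullback f g).presheaf.stalk x') RX').comp cD).toAlgebra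
  letI : Algebra A RS' := (((algebraMap OB RS').comp cB).comp (algebraMap A B)).toAlgebra
  letI : Algebra A RX := (((algebraMap OC RX).comp cC).comp (algebraMap A C)).toAlgebra
  letI : Algebra B RX' := ((algebraMap RS' RX').comp ((algebraMap OB RS').comp cB)).toAlgebra
  letI : Algebra RS RS' := α.toAlgebra
  letI : Algebra RX RX' := μ.toAlgebra
  letI : Algebra RS RX' := ((algebraMap RS' RX').comp α).toAlgebra
  haveI : IsScalarTower A (Localization.AtPrime PA.asIdeal) RS := IsScalarTower.of_algebraMap_eq fun a => rfl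
  haveI : IsScalarTower B (Localization.AtPrime PB.asIdeal) RS' := IsScalarTower.of_algebraMap_eq fun a => rfl
  haveI : IsScalarTower C (Localization.AtPrime PC.asIdeal) RX := IsScalarTower.of_algebraMap_eq fun a => rfl
  haveI : IsScalarTower D (Localization.AtPrime pD) RX' := IsScalarTower.of_algebraMap_eq fun a => rfl
  haveI : IsScalarTower A B RS' := IsScalarTower.of_algebraMap_eq fun a => rfl
  haveI : IsScalarTower A C RX := IsScalarTower.of_algebraMap_eq fun a => rfl
  haveI : IsScalarTower A RS RS' := IsScalarTower.of_algebraMap_eq fun a =>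
    ((RingHom.congr_fun hα (cA a)).trans (congrArg (algebraMap OB RS') (RingHom.congr_fun cBA a))).symm
  haveI : IsScalarTower A RS RX := IsScalarTower.of_algebraMap_eq fun a =>
    ((RingHom.congr_fun hβ (cA a)).trans (congrArg (algebraMap OC RX) (RingHom.congr_fun cCA a))).symm
  haveI : IsScalarTower B RS' RX' := IsScalarTower.of_algebraMap_eq fun a => rfl
  haveI : IsScalarTower B D RX' := IsScalarTower.of_algebraMap_eq fun a =>
    (RingHom.congr_fun hc (cB a)).trans (congrArg (algebraMap _ RX') (RingHom.congr_fun cDB a))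
  haveI : IsScalarTower RS RS' RX' := IsScalarTower.of_algebraMap_eq fun a => rfl
  haveI : IsScalarTower RS RX RX' := IsScalarTower.of_algebraMap_eq fun a => (RingHom.congr_fun hμβ a).symm
  haveI : IsScalarTower RS RS' Ω := IsScalarTower.of_algebraMap_eq fun a => RingHom.congr_fun hΩ a
  haveI : IsLocalHom (algebraMap RS RS') := hαl
  haveI : IsLocalHom (algebraMap RX RX') := hμl
  refine nonempty_tensor_equiv RS RX RS' RX' Ω (S9467.result A B C PA.asIdeal PB.asIdeal PC.asIdeal pD rfl RS RS' RX RX'
    (fun c => ?_) hB)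
  exact (RingHom.congr_fun hμ (cC c)).trans (congrArg (algebraMap _ RX') (RingHom.congr_fun cDC c))

end Groth.Agent.LocAcycLib
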